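import Mathlib
import Cfsg.Agent.M22Nse38.Arith

/-!
# A group of order 244823040 with the counts of M₂₄: the orders and their counts
-/

set_option autoImplicit false
set_option linter.unusedSectionVars false

namespace Cfsg.Agent.M24Nse26

open Finset
open Cfsg.Agent.M22Nse38 (frob card_pow_eq_one sn_pos sn_pos_of_dvd sn_mul)



/-- The values. -/
abbrev vals : Finset ℕ :=
  {1, 43263, 712448, 4080384, 5100480, 11658240, 12241152, 15301440, 20401920, 21288960, 22256640, 23316480, 32643072, 34974720, 40803840}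

/-- An element of order `q` gives `q - 1` of them. -/
theorem pred_le_sn {H : Type*} [Group H] [Finite H] {q : ℕ} (hq : q.Prime) (h : 0 < M22Nse38.sn H q) :
    q - 1 ≤ M22Nse38.sn H q := by
  obtain ⟨w, hw⟩ := sn_pos.1 h
  have e : ∀ i : Fin (q - 1), orderOf (w ^ (i.1 + 1)) = q := fun i => by
    rw [Nat.Coprime.orderOf_pow, hw]
    rw [hw]
    exact (hq.coprime_iff_not_dvd.2 fun hd => by
      have := Nat.le_of_dvd (by omega) hd
      have := i.2
      omega)
  calc q - 1 = Nat.card (Fin (q - 1)) := (Nat.card_fin _).symm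
    _ ≤ _ := Nat.card_le_card_of_injective (fun i => (⟨w ^ (i.1 + 1), e i⟩ : {g : H // orderOf g = q}))
      fun i j hij => by
        have h1 : w ^ (i.1 + 1) = w ^ (j.1 + 1) := congrArg Subtype.val hij
        have hi : i.1 + 1 < orderOf w := by rw [hw]; have := i.2; omega
        have hj : j.1 + 1 < orderOf w := by rw [hw]; have := j.2; omega
        have := pow_injOn_Iio_orderOf (x := w) (by simpa using hi) (by simpa using hj) h1
        exact Fin.ext (by omega)

/-- The number of elements of order `n > 2` is even. -/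
theorem even_sn {H : Type*} [Group H] [Finite H] {n : ℕ} (hn : 2 < n) : 2 ∣ M22Nse38.sn H n := by
  classical
  have := Fintype.ofFinite H
  rw [M22Nse38.sn, Nat.card_eq_fintype_card, Fintype.card_subtype]
  rw [← CharP.cast_eq_zero_iff (ZMod 2) 2, card_eq_sum_ones, Nat.cast_sum]
  refine sum_involution (fun g _ => g⁻¹) (fun g _ => by decide) (fun g hg _ he => ?_)
    (fun g hg => by simpa using hg) (fun g _ => inv_inv g)
  have h1 : g ^ 2 = 1 := by
    rw [sq]
    nth_rw 2 [← he]
    exact mul_inv_cancel g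
  have h2 := Nat.le_of_dvd (by norm_num) (orderOf_dvd_of_pow_eq_one h1)
  simp only [mem_filter, mem_univ, true_and] at hg
  omega

variable {G : Type*} [Group G] [Finite G] (hcard : Nat.card G = 244823040)
  (hnse : {c : ℕ | 0 < c ∧ ∃ n : ℕ, c = M22Nse38.sn G n} = {c | c ∈ vals})
include hcard hnse

theorem sn_mem {n : ℕ} (hn : 0 < M22Nse38.sn G n) : M22Nse38.sn G n ∈ vals :=
  (Set.ext_iff.1 hnse _).1 ⟨hn, n, rfl⟩

theorem s_two : M22Nse38.sn G 2 = 43263 := by
  obtain ⟨h0, n, hn⟩ := (Set.ext_iff.1 hnse 43263).2 (by decide)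
  rcases Nat.lt_or_ge 2 n with h | h
  · have := even_sn (H := G) h
    omega
  · interval_cases n
    · exfalso
      have : IsEmpty {g : G // orderOf g = 0} := ⟨fun g => (orderOf_pos g.1).ne' g.2⟩
      rw [M22Nse38.sn, Nat.card_of_isEmpty] at hn
      omega
    · rw [M22Nse38.sn_one] at hn
      omega
    · exact hn.symm

/-- The orders that occur. -/
noncomputable def orders (G : Type*) [Group G] [Finite G] : Finset ℕ :=
  ((Finset.range (Nat.card G + 1)).filter fun n => 0 < M22Nse38.sn G n)

omit hcard hnse in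
theorem mem_orders {n : ℕ} : n ∈ orders G ↔ 0 < M22Nse38.sn G n := by
  simp only [orders, mem_filter, mem_range, and_iff_right_iff_imp]
  intro h
  obtain ⟨g, rfl⟩ := sn_pos.1 h
  have := Nat.le_of_dvd Nat.card_pos (orderOf_dvd_natCard g)
  omega

omit hcard hnse in
theorem sum_vals : ∑ v ∈ vals, v = 244823040 := by decide +kernel

/-- The counts separate the orders. -/
theorem inj_on : Set.InjOn (M22Nse38.sn G) (orders G) ∧ (orders G).image (M22Nse38.sn G) = vals := by
  classical
  have := Fintype.ofFinite G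
  have himg : (orders G).image (M22Nse38.sn G) = vals := by
    ext w
    rw [mem_image]
    constructor
    · rintro ⟨n, hn, rfl⟩
      exact sn_mem hcard hnse (mem_orders.1 hn)
    · intro hw
      obtain ⟨h0, n, hn⟩ := (Set.ext_iff.1 hnse w).2 hw
      exact ⟨n, mem_orders.2 (hn ▸ h0), hn.symm⟩
  refine ⟨fun a ha b hb he => ?_, himg⟩
  by_contra hne
  have h1 : ∑ n ∈ orders G, M22Nse38.sn G n = 244823040 := by
    rw [← hcard, Nat.card_eq_fintype_card, ← card_univ,
      card_eq_sum_card_fiberwise (f := fun g : G => orderOf g) (t := orders G)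
        (fun g _ => mem_orders.2 (sn_pos.2 ⟨g, rfl⟩))]
    exact sum_congr rfl fun k _ => by rw [M22Nse38.sn, Nat.card_eq_fintype_card, Fintype.card_subtype]
  have hsub : ((orders G).erase a).image (M22Nse38.sn G) = vals := by
    rw [← himg]
    refine le_antisymm (image_subset_image (erase_subset a _)) fun v hv => ?_
    obtain ⟨k, hk, rfl⟩ := mem_image.1 hv
    by_cases e : k = a
    · exact mem_image.2 ⟨b, mem_erase.2 ⟨Ne.symm hne, hb⟩, by rw [e, he]⟩
    · exact mem_image.2 ⟨k, mem_erase.2 ⟨e, hk⟩, rfl⟩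
  have hle : ∑ v ∈ vals, v ≤ ∑ k ∈ (orders G).erase a, M22Nse38.sn G k := by
    rw [← hsub]
    exact Finset.sum_image_le_of_nonneg (g := M22Nse38.sn G) (f := fun v : ℕ => v) (fun _ _ => Nat.zero_le _)
  rw [sum_vals] at hle
  rw [← add_sum_erase _ _ (Finset.mem_coe.1 ha)] at h1
  have := mem_orders.1 (Finset.mem_coe.1 ha)
  omega

theorem sn_inj {n m : ℕ} (hn : 0 < M22Nse38.sn G n) (h : M22Nse38.sn G n = M22Nse38.sn G m) : n = m :=
  (inj_on hcard hnse).1 (Finset.mem_coe.2 (mem_orders.2 hn))
    (Finset.mem_coe.2 (mem_orders.2 (h ▸ hn))) h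

theorem card_orders : (orders G).card = 15 := by
  obtain ⟨h1, h2⟩ := inj_on hcard hnse
  rw [← card_image_of_injOn h1, h2]
  decide +kernel

theorem sn_prime {p v : ℕ} (hp : p.Prime) (hd : p ∣ 244823040)
    (huniq : ∀ w ∈ vals, p ∣ 1 + w → 2 ∣ w → (p - 1) ∣ w → w = v) (h2 : p ≠ 2)
    (hf : (244823040).factorization p = 1 ∨ p = 3) : M22Nse38.sn G p = v := by
  have : Fact p.Prime := ⟨hp⟩
  obtain ⟨g, hg⟩ := exists_prime_orderOf_dvd_card' (G := G) p (hcard ▸ hd)
  refine huniq _ (sn_mem hcard hnse (sn_pos.2 ⟨g, hg⟩)) ?_ (even_sn ?_) ?_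
  · have h := frob (G := G) p
    rwa [hcard, Nat.gcd_eq_left hd, card_pow_eq_one hp.ne_zero, hp.sum_divisors, add_comm,
      M22Nse38.sn_one] at h
  · have := hp.two_le
    omega
  · rcases hf with hf | rfl
    · have hall : ∀ Q : Sylow p G, Nat.card (Q : Subgroup G) = p := fun Q => by
        rw [Q.card_eq_multiplicity, hcard, hf, pow_one]
      have h : M22Nse38.sn G p = Nat.card (Sylow p G) * (p - 1) := SmallGroups.card_orderOf_eq hall
      exact h ▸ dvd_mul_left _ _
    · exact even_sn (by norm_num)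

omit hcard hnse in
theorem fac_prime {p : ℕ} (hp : p.Prime) (h1 : p ∣ 244823040) (h2 : ¬ p ^ 2 ∣ 244823040) :
    (244823040).factorization p = 1 :=
  le_antisymm (by
      by_contra h
      exact h2 ((hp.pow_dvd_iff_le_factorization (by norm_num)).2 (by omega)))
    ((hp.dvd_iff_one_le_factorization (by norm_num)).1 h1)

theorem s_three : M22Nse38.sn G 3 = 712448 :=
  sn_prime hcard hnse Nat.prime_three (by norm_num) (by decide +kernel) (by norm_num) (Or.inr rfl)

theorem s_five : M22Nse38.sn G 5 = 4080384 :=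
  sn_prime hcard hnse (by norm_num) (by norm_num) (by decide +kernel) (by norm_num)
    (Or.inl (fac_prime (by norm_num) (by norm_num) (by norm_num)))

theorem s_seven : M22Nse38.sn G 7 = 11658240 :=
  sn_prime hcard hnse (by norm_num) (by norm_num) (by decide +kernel) (by norm_num)
    (Or.inl (fac_prime (by norm_num) (by norm_num) (by norm_num)))

theorem s_eleven : M22Nse38.sn G 11 = 22256640 :=
  sn_prime hcard hnse (by norm_num) (by norm_num) (by decide +kernel) (by norm_num)
    (Or.inl (fac_prime (by norm_num) (by norm_num) (by norm_num)))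

theorem s_23 : M22Nse38.sn G 23 = 21288960 :=
  sn_prime hcard hnse (by norm_num) (by norm_num) (by decide +kernel) (by norm_num)
    (Or.inl (fac_prime (by norm_num) (by norm_num) (by norm_num)))

/-- The normalisers of the large Sylow subgroups. -/
theorem norm_card (p k : ℕ) (hpk : (p, k) ∈ ([(5, 240), (7, 126), (11, 110), (23, 253)] : List (ℕ × ℕ)))
    (P : Subgroup G) (hP : Nat.card P = p) :
    Nat.card (Subgroup.normalizer (P : Set G)) = k := by
  simp only [List.mem_cons, Prod.mk.injEq, List.not_mem_nil, or_false] at hpk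
  have hfin : p.Prime ∧ (244823040).factorization p = 1 ∧ M22Nse38.sn G p * k = 244823040 * (p - 1) := by
    have hf : ∀ q : ℕ, q.Prime → q ∣ 244823040 → ¬ q ^ 2 ∣ 244823040 →
        (244823040).factorization q = 1 := fun q hq h1 h2 =>
      le_antisymm (by
          by_contra h
          exact h2 ((hq.pow_dvd_iff_le_factorization (by norm_num)).2 (by omega)))
        ((hq.dvd_iff_one_le_factorization (by norm_num)).1 h1)
    rcases hpk with ⟨rfl, rfl⟩ | ⟨rfl, rfl⟩ | ⟨rfl, rfl⟩ | ⟨rfl, rfl⟩
    · exact ⟨by norm_num, hf 5 (by norm_num) (by norm_num) (by norm_num), by rw [s_five hcard hnse]⟩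
    · exact ⟨by norm_num, hf 7 (by norm_num) (by norm_num) (by norm_num), by rw [s_seven hcard hnse]⟩
    · exact ⟨by norm_num, hf 11 (by norm_num) (by norm_num) (by norm_num),
        by rw [s_eleven hcard hnse]⟩
    · exact ⟨by norm_num, hf 23 (by norm_num) (by norm_num) (by norm_num), by rw [s_23 hcard hnse]⟩
  obtain ⟨pp, hfac, hs⟩ := hfin
  have : Fact p.Prime := ⟨pp⟩
  let S : Sylow p G := Sylow.ofCard P (by rw [hP, hcard, hfac, pow_one])
  have hall : ∀ Q : Sylow p G, Nat.card (Q : Subgroup G) = p := fun Q => by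
    rw [Q.card_eq_multiplicity, hcard, hfac, pow_one]
  have h1 : M22Nse38.sn G p = Nat.card (Sylow p G) * (p - 1) := SmallGroups.card_orderOf_eq hall
  have h2 := (Subgroup.normalizer ((S : Subgroup G) : Set G)).card_mul_index
  rw [hcard, show (Subgroup.normalizer ((S : Subgroup G) : Set G)).index = Nat.card (Sylow p G) from
    (S.card_eq_index_normalizer).symm] at h2
  have h3 : Nat.card (Subgroup.normalizer ((S : Subgroup G) : Set G)) = k := by
    rw [h1] at hs
    have hpos : 0 < Nat.card (Sylow p G) * (p - 1) :=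
      Nat.mul_pos Nat.card_pos (Nat.sub_pos_of_lt pp.one_lt)
    refine Nat.eq_of_mul_eq_mul_right hpos ?_
    rw [← mul_assoc, h2, ← hs]
    ring
  exact h3

/-- The number of elements of order `q` commuting with one of order `p`. -/
theorem sn_mul_eq {p q : ℕ} (hp : p ∈ ([5, 7, 11, 23] : List ℕ)) (hq : q.Prime) (hpq : q ≠ p)
    {x : G} (hx : orderOf x = p) :
    M22Nse38.sn G (p * q) = M22Nse38.sn G p * M22Nse38.sn (Subgroup.centralizer ({x} : Set G)) q := by
  classical
  have := Fintype.ofFinite G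
  have pp : p.Prime := by
    simp only [List.mem_cons, List.not_mem_nil, or_false] at hp
    rcases hp with rfl | rfl | rfl | rfl <;> norm_num
  have : Fact p.Prime := ⟨pp⟩
  have hP : ∀ P : Sylow p G, Nat.card ↥(P : Subgroup G) = p := fun P => by
    rw [P.card_eq_multiplicity, hcard]
    simp only [List.mem_cons, List.not_mem_nil, or_false] at hp
    have hf : (244823040).factorization p = 1 := by
      refine le_antisymm ?_ ((pp.dvd_iff_one_le_factorization (by norm_num)).1 ?_)
      · by_contra h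
        have := (pp.pow_dvd_iff_le_factorization (k := 2) (show 244823040 ≠ 0 by norm_num)).2
          (by omega)
        rcases hp with rfl | rfl | rfl | rfl <;> norm_num at this
      · rcases hp with rfl | rfl | rfl | rfl <;> norm_num
    rw [hf, pow_one]
  have key : ∀ y : {y : G // orderOf y = p},
      Nat.card {w : G // orderOf w = q ∧ Commute y.1 w} =
        Nat.card {w : G // orderOf w = q ∧ Commute x w} := by
    rintro ⟨y, hy⟩
    obtain ⟨P, hyP⟩ := SmallGroups.exists_mem_sylow hy
    obtain ⟨Q, hxQ⟩ := SmallGroups.exists_mem_sylow hx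
    obtain ⟨g, rfl⟩ := MulAction.exists_smul_eq G P Q
    have hy1 : y ≠ 1 := fun e => pp.ne_one (by rw [← hy, e, orderOf_one])
    have hx1 : x ≠ 1 := fun e => pp.ne_one (by rw [← hx, e, orderOf_one])
    have e1 := SmallGroups.zpowers_eq_of_card_prime (hP P) hyP hy1
    have e2 := SmallGroups.zpowers_eq_of_card_prime (hP _) hxQ hx1
    have hyx : g * y * g⁻¹ ∈ Subgroup.zpowers x := by
      rw [e2, Sylow.coe_subgroup_smul, Subgroup.mem_pointwise_smul_iff_inv_smul_mem]
      simpa [MulAut.smul_def, mul_assoc] using hyP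
    have hxy : g⁻¹ * x * g ∈ Subgroup.zpowers y := by
      rw [e1]
      have := hxQ
      rw [Sylow.coe_subgroup_smul, Subgroup.mem_pointwise_smul_iff_inv_smul_mem] at this
      simpa [MulAut.smul_def, mul_assoc] using this
    refine Nat.card_congr ((MulAut.conj g).toEquiv.subtypeEquiv fun w => and_congr ?_ ?_)
    · rw [show orderOf ((MulAut.conj g).toEquiv w) = orderOf w from
        orderOf_injective (MulAut.conj g).toMonoidHom (MulAut.conj g).injective w]
    · show Commute y w ↔ Commute x (g * w * g⁻¹)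
      obtain ⟨i, hi⟩ := hxy
      obtain ⟨j, hj⟩ := hyx
      simp only at hi hj
      constructor
      · intro h
        have h' : Commute (y ^ i) w := h.zpow_left i
        rw [hi] at h'
        have := h'.map (MulAut.conj g).toMonoidHom
        simpa [mul_assoc] using this
      · intro h
        have h' : Commute (x ^ j) (g * w * g⁻¹) := h.zpow_left j
        rw [hj] at h'
        have := h'.map (MulAut.conj g⁻¹).toMonoidHom
        simpa [mul_assoc] using this
  rw [sn_mul ((Nat.coprime_primes pp hq).2 (Ne.symm hpq)), sum_congr rfl (fun y _ => key y),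
    sum_const, card_univ, smul_eq_mul, M22Nse38.sn, ← Nat.card_eq_fintype_card]
  congr 1
  refine Nat.card_congr
    { toFun := fun w => ⟨⟨w.1, Subgroup.mem_centralizer_singleton_iff.2 w.2.2.symm⟩, by
        rw [Subgroup.orderOf_mk]; exact w.2.1⟩
      invFun := fun w => ⟨w.1.1, (Subgroup.orderOf_coe w.1).trans w.2,
        (Subgroup.mem_centralizer_singleton_iff.1 w.1.2).symm⟩
      left_inv := fun w => rfl
      right_inv := fun w => rfl }

/-- The centraliser of an element of order `p = 5, 7, 11, 23` has order dividing `k = |N(P)|`, with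
quotient dividing `p - 1`; elements of prime order `q ≠ p` in it have counts `j` with `j s_p` a value. -/
theorem cent_data {p k : ℕ}
    (hpk : (p, k) ∈ ([(5, 240), (7, 126), (11, 110), (23, 253)] : List (ℕ × ℕ)))
    {x : G} (hx : orderOf x = p) :
    (∃ r, r ∣ p - 1 ∧ Nat.card (Subgroup.centralizer ({x} : Set G)) * r = k) ∧
      p ∣ Nat.card (Subgroup.centralizer ({x} : Set G)) ∧
      ∀ q, q.Prime → q ≠ p → q ∣ Nat.card (Subgroup.centralizer ({x} : Set G)) →
        M22Nse38.sn G p * M22Nse38.sn (Subgroup.centralizer ({x} : Set G)) q ∈ vals ∧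
          M22Nse38.sn (Subgroup.centralizer ({x} : Set G)) q ≠ 1 ∧
          M22Nse38.sn G (p * q) = M22Nse38.sn G p * M22Nse38.sn (Subgroup.centralizer ({x} : Set G)) q ∧
          q - 1 ≤ M22Nse38.sn (Subgroup.centralizer ({x} : Set G)) q ∧
          q ∣ 1 + M22Nse38.sn (Subgroup.centralizer ({x} : Set G)) q ∧
          (q ≠ 2 → 2 ∣ M22Nse38.sn (Subgroup.centralizer ({x} : Set G)) q) := by
  classical
  set C := Subgroup.centralizer ({x} : Set G) with hC
  have hp : p ∈ ([5, 7, 11, 23] : List ℕ) := by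
    simp only [List.mem_cons, Prod.mk.injEq, List.not_mem_nil, or_false] at hpk ⊢
    omega
  have hz : Nat.card (Subgroup.zpowers x) = p := by rw [Nat.card_zpowers, hx]
  have hprime : p.Prime := by
    simp only [List.mem_cons, List.not_mem_nil, or_false] at hp
    rcases hp with rfl | rfl | rfl | rfl <;> norm_num
  have hN := norm_card hcard hnse p k hpk _ hz
  set N := Subgroup.normalizer ((Subgroup.zpowers x : Subgroup G) : Set G) with hNdef
  have hCz : Subgroup.centralizer ((Subgroup.zpowers x : Subgroup G) : Set G) = C := by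
    rw [hC, Subgroup.zpowers_eq_closure, Subgroup.centralizer_closure]
  have hCN : C ≤ N := hCz ▸ Subgroup.centralizer_le_normalizer _
  refine ⟨⟨C.relIndex N, ?_, ?_⟩, ?_, fun q hq hqp hqC => ?_⟩
  · have : Fact p.Prime := ⟨hprime⟩
    rw [← hCz]
    exact SmallGroups.relIndex_centralizer_dvd_of_prime _ hz
  · rw [← hN, Subgroup.relIndex, ← (C.subgroupOf N).card_mul_index,
      Nat.card_congr (Subgroup.subgroupOfEquivOfLe hCN).toEquiv]
  · rw [← hz]
    exact Subgroup.card_dvd_of_le (Subgroup.zpowers_le.2 (Subgroup.mem_centralizer_singleton_iff.2 rfl))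
  · have : Fact q.Prime := ⟨hq⟩
    obtain ⟨w, hw⟩ := exists_prime_orderOf_dvd_card' (G := C) q hqC
    have h0 : 0 < M22Nse38.sn C q := sn_pos.2 ⟨w, hw⟩
    have hs := sn_mul_eq hcard hnse hp hq hqp hx
    rw [← hC] at hs
    have hpos : 0 < M22Nse38.sn G (p * q) := by
      rw [hs]
      exact Nat.mul_pos (sn_pos.2 ⟨x, hx⟩) h0
    refine ⟨hs ▸ sn_mem hcard hnse hpos, fun h1 => ?_, hs, pred_le_sn hq h0, ?_,
      fun h => even_sn (by have := hq.two_le; omega)⟩
    · rw [h1, mul_one] at hs
      have := sn_inj hcard hnse hpos hs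
      have := hq.two_le
      nlinarith [hprime.pos]
    · have h := frob (G := C) q
      rwa [Nat.gcd_eq_left hqC, card_pow_eq_one hq.ne_zero, hq.sum_divisors, add_comm,
        M22Nse38.sn_one] at h

omit hcard hnse in
theorem no_multiple : ∀ v ∈ vals, v ≤ 40803840 := by decide +kernel

theorem cent_eleven {x : G} (hx : orderOf x = 11) :
    Nat.card (Subgroup.centralizer ({x} : Set G)) = 11 := by
  obtain ⟨⟨r, hr, hm⟩, hp, hq⟩ := cent_data hcard hnse (p := 11) (k := 110) (by simp) hx
  have hno : ∀ q, q.Prime → q ≠ 11 → ¬ q ∣ Nat.card (Subgroup.centralizer ({x} : Set G)) := by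
    intro q hq' hq11 hd
    obtain ⟨hv, h1, -, h2, -, -⟩ := hq q hq' hq11 hd
    have := no_multiple _ hv
    rw [s_eleven hcard hnse] at this
    have := hq'.two_le
    omega
  have h2 := hno 2 Nat.prime_two (by norm_num)
  have h5 := hno 5 (by norm_num) (by norm_num)
  have hd : Nat.card (Subgroup.centralizer ({x} : Set G)) ∈ Nat.divisors 110 :=
    Nat.mem_divisors.2 ⟨⟨r, hm.symm⟩, by norm_num⟩
  revert hp h2 h5
  generalize Nat.card (Subgroup.centralizer ({x} : Set G)) = m at hd
  revert m
  decide +kernel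

theorem cent_23 {x : G} (hx : orderOf x = 23) :
    Nat.card (Subgroup.centralizer ({x} : Set G)) = 23 := by
  obtain ⟨⟨r, hr, hm⟩, hp, hq⟩ := cent_data hcard hnse (p := 23) (k := 253) (by simp) hx
  have h11 : ¬ 11 ∣ Nat.card (Subgroup.centralizer ({x} : Set G)) := by
    intro hd
    obtain ⟨hv, h1, -, h2, -, -⟩ := hq 11 (by norm_num) (by norm_num) hd
    have := no_multiple _ hv
    rw [s_23 hcard hnse] at this
    omega
  have hd : Nat.card (Subgroup.centralizer ({x} : Set G)) ∈ Nat.divisors 253 :=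
    Nat.mem_divisors.2 ⟨⟨r, hm.symm⟩, by norm_num⟩
  revert hp h11
  generalize Nat.card (Subgroup.centralizer ({x} : Set G)) = m at hd
  revert m
  decide +kernel

omit hcard hnse in
theorem mult_five : ∀ j < 11, 4080384 * j ∈ vals → j ∈ ([1, 3, 5, 8, 10] : List ℕ) := by decide +kernel

omit hcard hnse in
theorem mult_seven : ∀ j < 4, 11658240 * j ∈ vals → j ∈ ([1, 2, 3] : List ℕ) := by decide +kernel

/-- Elements of order five: their centralisers and the orders 15, 10. -/
theorem five_facts {x : G} (hx : orderOf x = 5) :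
    Nat.card (Subgroup.centralizer ({x} : Set G)) ∣ 240 ∧
      60 ∣ Nat.card (Subgroup.centralizer ({x} : Set G)) ∧ M22Nse38.sn G 15 = 32643072 ∧
      (M22Nse38.sn G 10 = 12241152 ∨ M22Nse38.sn G 10 = 20401920) := by
  obtain ⟨⟨r, hr, hm⟩, hp, hq⟩ := cent_data hcard hnse (p := 5) (k := 240) (by simp) hx
  set m := Nat.card (Subgroup.centralizer ({x} : Set G))
  have hr4 : r ≤ 4 := Nat.le_of_dvd (by norm_num) hr
  have h60 : 60 ∣ m := by
    have : r = 1 ∨ r = 2 ∨ r = 4 := by
      have : r ∈ Nat.divisors 4 := Nat.mem_divisors.2 ⟨hr, by norm_num⟩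
      fin_cases this <;> simp
    rcases this with rfl | rfl | rfl
    · exact ⟨4, by omega⟩
    · exact ⟨2, by omega⟩
    · exact ⟨1, by omega⟩
  have key : ∀ q, q.Prime → q ≠ 5 → q ∣ m → ∃ j ∈ ([3, 5, 8, 10] : List ℕ),
      M22Nse38.sn G (5 * q) = 4080384 * j ∧ q ∣ 1 + j ∧ (q ≠ 2 → 2 ∣ j) := by
    intro q hq' h5 hd
    obtain ⟨hv, h1, hs, h2, h3, h4⟩ := hq q hq' h5 hd
    rw [s_five hcard hnse] at hv hs
    have := no_multiple _ hv
    have hj := mult_five _ (by omega) hv
    refine ⟨_, ?_, hs, h3, h4⟩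
    simp only [List.mem_cons, List.not_mem_nil, or_false] at hj ⊢
    omega
  refine ⟨⟨r, hm.symm⟩, h60, ?_, ?_⟩
  · obtain ⟨j, hj, hs, h3, h4⟩ := key 3 Nat.prime_three (by norm_num) ((by norm_num : 3 ∣ 60).trans h60)
    have := h4 (by norm_num)
    simp only [List.mem_cons, List.not_mem_nil, or_false] at hj
    norm_num at hs
    omega
  · obtain ⟨j, hj, hs, h3, -⟩ := key 2 Nat.prime_two (by norm_num) ((by norm_num : 2 ∣ 60).trans h60)
    simp only [List.mem_cons, List.not_mem_nil, or_false] at hj
    norm_num at hs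
    omega

/-- Elements of order seven: their centralisers and the order 21. -/
theorem seven_facts {x : G} (hx : orderOf x = 7) :
    Nat.card (Subgroup.centralizer ({x} : Set G)) ∣ 126 ∧
      21 ∣ Nat.card (Subgroup.centralizer ({x} : Set G)) ∧ M22Nse38.sn G 21 = 23316480 := by
  obtain ⟨⟨r, hr, hm⟩, hp, hq⟩ := cent_data hcard hnse (p := 7) (k := 126) (by simp) hx
  set m := Nat.card (Subgroup.centralizer ({x} : Set G))
  have h21 : 21 ∣ m := by
    have : r ∈ Nat.divisors 6 := Nat.mem_divisors.2 ⟨hr, by norm_num⟩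
    fin_cases this
    · exact ⟨6, by omega⟩
    · exact ⟨3, by omega⟩
    · exact ⟨2, by omega⟩
    · exact ⟨1, by omega⟩
  obtain ⟨hv, h1, hs, h2, h3, h4⟩ :=
    hq 3 Nat.prime_three (by norm_num) ((by norm_num : 3 ∣ 21).trans h21)
  rw [s_seven hcard hnse] at hv hs
  have := no_multiple _ hv
  have hj := mult_seven _ (by omega) hv
  have := h4 (by norm_num)
  refine ⟨⟨r, hm.symm⟩, h21, ?_⟩
  simp only [List.mem_cons, List.not_mem_nil, or_false] at hj
  norm_num at hs
  omega

end Cfsg.Agent.M24Nse26
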