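import Mathlib

/-!
# A group with the order and counts of M₂₄: interface
-/

set_option autoImplicit false

namespace Cfsg.Agent.M24Nse26

/-- The number of elements of order `n`. -/
noncomputable def sn (G : Type*) [Group G] (n : ℕ) : ℕ := Nat.card {g : G // orderOf g = n}

/-- The centraliser of an element. -/
abbrev cz {G : Type*} [Group G] (g : G) : Subgroup G := Subgroup.centralizer ({g} : Set G)

/-- What the order and the set of counts give. -/
structure Dat (G : Type*) [Group G] : Prop where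
  card : Nat.card G = 244823040
  simple : IsSimpleGroup G
  spec : ∀ g : G,
    orderOf g ∈ ([1, 2, 3, 4, 5, 6, 7, 8, 10, 11, 12, 14, 15, 21, 23] : List ℕ)
  s2 : sn G 2 = 43263
  s3 : sn G 3 = 712448
  s4 : sn G 4 = 5100480
  s5 : sn G 5 = 4080384
  s6 : sn G 6 = 20401920
  s7 : sn G 7 = 11658240
  s8 : sn G 8 = 15301440
  s10 : sn G 10 = 12241152
  s11 : sn G 11 = 22256640
  s12 : sn G 12 = 40803840
  s14 : sn G 14 = 34974720
  s15 : sn G 15 = 32643072
  s21 : sn G 21 = 23316480
  s23 : sn G 23 = 21288960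
  cz5 : ∀ g : G, orderOf g = 5 → Nat.card (cz g) = 60
  cz7 : ∀ g : G, orderOf g = 7 → Nat.card (cz g) = 42
  cz11 : ∀ g : G, orderOf g = 11 → Nat.card (cz g) = 11
  cz23 : ∀ g : G, orderOf g = 23 → Nat.card (cz g) = 23
  norm : ∀ p k : ℕ, (p, k) ∈ ([(5, 240), (7, 126), (11, 110), (23, 253)] : List (ℕ × ℕ)) →
    ∀ P : Subgroup G, Nat.card P = p → Nat.card (Subgroup.normalizer (P : Set G)) = k

end Cfsg.Agent.M24Nse26
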