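import Cfsg.Agent.M24Nse26.Arith

/-!
# A group of order 244823040 with the counts of M₂₄: the orders
-/

set_option autoImplicit false
set_option linter.unusedSectionVars false

namespace Cfsg.Agent.M24Nse26

open Finset
open Cfsg.Agent.M22Nse38 (frob card_pow_eq_one sn_pos sn_pos_of_dvd sn_mul)



/-- The possible further orders. -/
abbrev cands : List ℕ := [4, 6, 8, 9, 12, 14, 16, 18, 20, 24, 27, 30, 32, 40, 42, 54, 63, 64]

/-- The assignments of the five values if `s₁₀ = 12241152`. -/
def permsA : List (List ℕ) := [
    [5100480, 15301440, 20401920, 34974720, 40803840],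
    [5100480, 15301440, 20401920, 40803840, 34974720],
    [5100480, 15301440, 34974720, 20401920, 40803840],
    [5100480, 15301440, 34974720, 40803840, 20401920],
    [5100480, 15301440, 40803840, 20401920, 34974720],
    [5100480, 15301440, 40803840, 34974720, 20401920],
    [5100480, 20401920, 15301440, 34974720, 40803840],
    [5100480, 20401920, 15301440, 40803840, 34974720],
    [5100480, 20401920, 34974720, 15301440, 40803840],
    [5100480, 20401920, 34974720, 40803840, 15301440],
    [5100480, 20401920, 40803840, 15301440, 34974720],
    [5100480, 20401920, 40803840, 34974720, 15301440],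
    [5100480, 34974720, 15301440, 20401920, 40803840],
    [5100480, 34974720, 15301440, 40803840, 20401920],
    [5100480, 34974720, 20401920, 15301440, 40803840],
    [5100480, 34974720, 20401920, 40803840, 15301440],
    [5100480, 34974720, 40803840, 15301440, 20401920],
    [5100480, 34974720, 40803840, 20401920, 15301440],
    [5100480, 40803840, 15301440, 20401920, 34974720],
    [5100480, 40803840, 15301440, 34974720, 20401920],
    [5100480, 40803840, 20401920, 15301440, 34974720],
    [5100480, 40803840, 20401920, 34974720, 15301440],
    [5100480, 40803840, 34974720, 15301440, 20401920],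
    [5100480, 40803840, 34974720, 20401920, 15301440],
    [15301440, 5100480, 20401920, 34974720, 40803840],
    [15301440, 5100480, 20401920, 40803840, 34974720],
    [15301440, 5100480, 34974720, 20401920, 40803840],
    [15301440, 5100480, 34974720, 40803840, 20401920],
    [15301440, 5100480, 40803840, 20401920, 34974720],
    [15301440, 5100480, 40803840, 34974720, 20401920],
    [15301440, 20401920, 5100480, 34974720, 40803840],
    [15301440, 20401920, 5100480, 40803840, 34974720],
    [15301440, 20401920, 34974720, 5100480, 40803840],
    [15301440, 20401920, 34974720, 40803840, 5100480],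
    [15301440, 20401920, 40803840, 5100480, 34974720],
    [15301440, 20401920, 40803840, 34974720, 5100480],
    [15301440, 34974720, 5100480, 20401920, 40803840],
    [15301440, 34974720, 5100480, 40803840, 20401920],
    [15301440, 34974720, 20401920, 5100480, 40803840],
    [15301440, 34974720, 20401920, 40803840, 5100480],
    [15301440, 34974720, 40803840, 5100480, 20401920],
    [15301440, 34974720, 40803840, 20401920, 5100480],
    [15301440, 40803840, 5100480, 20401920, 34974720],
    [15301440, 40803840, 5100480, 34974720, 20401920],
    [15301440, 40803840, 20401920, 5100480, 34974720],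
    [15301440, 40803840, 20401920, 34974720, 5100480],
    [15301440, 40803840, 34974720, 5100480, 20401920],
    [15301440, 40803840, 34974720, 20401920, 5100480],
    [20401920, 5100480, 15301440, 34974720, 40803840],
    [20401920, 5100480, 15301440, 40803840, 34974720],
    [20401920, 5100480, 34974720, 15301440, 40803840],
    [20401920, 5100480, 34974720, 40803840, 15301440],
    [20401920, 5100480, 40803840, 15301440, 34974720],
    [20401920, 5100480, 40803840, 34974720, 15301440],
    [20401920, 15301440, 5100480, 34974720, 40803840],
    [20401920, 15301440, 5100480, 40803840, 34974720],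
    [20401920, 15301440, 34974720, 5100480, 40803840],
    [20401920, 15301440, 34974720, 40803840, 5100480],
    [20401920, 15301440, 40803840, 5100480, 34974720],
    [20401920, 15301440, 40803840, 34974720, 5100480],
    [20401920, 34974720, 5100480, 15301440, 40803840],
    [20401920, 34974720, 5100480, 40803840, 15301440],
    [20401920, 34974720, 15301440, 5100480, 40803840],
    [20401920, 34974720, 15301440, 40803840, 5100480],
    [20401920, 34974720, 40803840, 5100480, 15301440],
    [20401920, 34974720, 40803840, 15301440, 5100480],
    [20401920, 40803840, 5100480, 15301440, 34974720],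
    [20401920, 40803840, 5100480, 34974720, 15301440],
    [20401920, 40803840, 15301440, 5100480, 34974720],
    [20401920, 40803840, 15301440, 34974720, 5100480],
    [20401920, 40803840, 34974720, 5100480, 15301440],
    [20401920, 40803840, 34974720, 15301440, 5100480],
    [34974720, 5100480, 15301440, 20401920, 40803840],
    [34974720, 5100480, 15301440, 40803840, 20401920],
    [34974720, 5100480, 20401920, 15301440, 40803840],
    [34974720, 5100480, 20401920, 40803840, 15301440],
    [34974720, 5100480, 40803840, 15301440, 20401920],
    [34974720, 5100480, 40803840, 20401920, 15301440],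
    [34974720, 15301440, 5100480, 20401920, 40803840],
    [34974720, 15301440, 5100480, 40803840, 20401920],
    [34974720, 15301440, 20401920, 5100480, 40803840],
    [34974720, 15301440, 20401920, 40803840, 5100480],
    [34974720, 15301440, 40803840, 5100480, 20401920],
    [34974720, 15301440, 40803840, 20401920, 5100480],
    [34974720, 20401920, 5100480, 15301440, 40803840],
    [34974720, 20401920, 5100480, 40803840, 15301440],
    [34974720, 20401920, 15301440, 5100480, 40803840],
    [34974720, 20401920, 15301440, 40803840, 5100480],
    [34974720, 20401920, 40803840, 5100480, 15301440],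
    [34974720, 20401920, 40803840, 15301440, 5100480],
    [34974720, 40803840, 5100480, 15301440, 20401920],
    [34974720, 40803840, 5100480, 20401920, 15301440],
    [34974720, 40803840, 15301440, 5100480, 20401920],
    [34974720, 40803840, 15301440, 20401920, 5100480],
    [34974720, 40803840, 20401920, 5100480, 15301440],
    [34974720, 40803840, 20401920, 15301440, 5100480],
    [40803840, 5100480, 15301440, 20401920, 34974720],
    [40803840, 5100480, 15301440, 34974720, 20401920],
    [40803840, 5100480, 20401920, 15301440, 34974720],
    [40803840, 5100480, 20401920, 34974720, 15301440],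
    [40803840, 5100480, 34974720, 15301440, 20401920],
    [40803840, 5100480, 34974720, 20401920, 15301440],
    [40803840, 15301440, 5100480, 20401920, 34974720],
    [40803840, 15301440, 5100480, 34974720, 20401920],
    [40803840, 15301440, 20401920, 5100480, 34974720],
    [40803840, 15301440, 20401920, 34974720, 5100480],
    [40803840, 15301440, 34974720, 5100480, 20401920],
    [40803840, 15301440, 34974720, 20401920, 5100480],
    [40803840, 20401920, 5100480, 15301440, 34974720],
    [40803840, 20401920, 5100480, 34974720, 15301440],
    [40803840, 20401920, 15301440, 5100480, 34974720],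
    [40803840, 20401920, 15301440, 34974720, 5100480],
    [40803840, 20401920, 34974720, 5100480, 15301440],
    [40803840, 20401920, 34974720, 15301440, 5100480],
    [40803840, 34974720, 5100480, 15301440, 20401920],
    [40803840, 34974720, 5100480, 20401920, 15301440],
    [40803840, 34974720, 15301440, 5100480, 20401920],
    [40803840, 34974720, 15301440, 20401920, 5100480],
    [40803840, 34974720, 20401920, 5100480, 15301440],
    [40803840, 34974720, 20401920, 15301440, 5100480]]

/-- The assignments of the five values if `s₁₀ = 20401920`. -/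
def permsB : List (List ℕ) := [
    [5100480, 12241152, 15301440, 34974720, 40803840],
    [5100480, 12241152, 15301440, 40803840, 34974720],
    [5100480, 12241152, 34974720, 15301440, 40803840],
    [5100480, 12241152, 34974720, 40803840, 15301440],
    [5100480, 12241152, 40803840, 15301440, 34974720],
    [5100480, 12241152, 40803840, 34974720, 15301440],
    [5100480, 15301440, 12241152, 34974720, 40803840],
    [5100480, 15301440, 12241152, 40803840, 34974720],
    [5100480, 15301440, 34974720, 12241152, 40803840],
    [5100480, 15301440, 34974720, 40803840, 12241152],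
    [5100480, 15301440, 40803840, 12241152, 34974720],
    [5100480, 15301440, 40803840, 34974720, 12241152],
    [5100480, 34974720, 12241152, 15301440, 40803840],
    [5100480, 34974720, 12241152, 40803840, 15301440],
    [5100480, 34974720, 15301440, 12241152, 40803840],
    [5100480, 34974720, 15301440, 40803840, 12241152],
    [5100480, 34974720, 40803840, 12241152, 15301440],
    [5100480, 34974720, 40803840, 15301440, 12241152],
    [5100480, 40803840, 12241152, 15301440, 34974720],
    [5100480, 40803840, 12241152, 34974720, 15301440],
    [5100480, 40803840, 15301440, 12241152, 34974720],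
    [5100480, 40803840, 15301440, 34974720, 12241152],
    [5100480, 40803840, 34974720, 12241152, 15301440],
    [5100480, 40803840, 34974720, 15301440, 12241152],
    [12241152, 5100480, 15301440, 34974720, 40803840],
    [12241152, 5100480, 15301440, 40803840, 34974720],
    [12241152, 5100480, 34974720, 15301440, 40803840],
    [12241152, 5100480, 34974720, 40803840, 15301440],
    [12241152, 5100480, 40803840, 15301440, 34974720],
    [12241152, 5100480, 40803840, 34974720, 15301440],
    [12241152, 15301440, 5100480, 34974720, 40803840],
    [12241152, 15301440, 5100480, 40803840, 34974720],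
    [12241152, 15301440, 34974720, 5100480, 40803840],
    [12241152, 15301440, 34974720, 40803840, 5100480],
    [12241152, 15301440, 40803840, 5100480, 34974720],
    [12241152, 15301440, 40803840, 34974720, 5100480],
    [12241152, 34974720, 5100480, 15301440, 40803840],
    [12241152, 34974720, 5100480, 40803840, 15301440],
    [12241152, 34974720, 15301440, 5100480, 40803840],
    [12241152, 34974720, 15301440, 40803840, 5100480],
    [12241152, 34974720, 40803840, 5100480, 15301440],
    [12241152, 34974720, 40803840, 15301440, 5100480],
    [12241152, 40803840, 5100480, 15301440, 34974720],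
    [12241152, 40803840, 5100480, 34974720, 15301440],
    [12241152, 40803840, 15301440, 5100480, 34974720],
    [12241152, 40803840, 15301440, 34974720, 5100480],
    [12241152, 40803840, 34974720, 5100480, 15301440],
    [12241152, 40803840, 34974720, 15301440, 5100480],
    [15301440, 5100480, 12241152, 34974720, 40803840],
    [15301440, 5100480, 12241152, 40803840, 34974720],
    [15301440, 5100480, 34974720, 12241152, 40803840],
    [15301440, 5100480, 34974720, 40803840, 12241152],
    [15301440, 5100480, 40803840, 12241152, 34974720],
    [15301440, 5100480, 40803840, 34974720, 12241152],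
    [15301440, 12241152, 5100480, 34974720, 40803840],
    [15301440, 12241152, 5100480, 40803840, 34974720],
    [15301440, 12241152, 34974720, 5100480, 40803840],
    [15301440, 12241152, 34974720, 40803840, 5100480],
    [15301440, 12241152, 40803840, 5100480, 34974720],
    [15301440, 12241152, 40803840, 34974720, 5100480],
    [15301440, 34974720, 5100480, 12241152, 40803840],
    [15301440, 34974720, 5100480, 40803840, 12241152],
    [15301440, 34974720, 12241152, 5100480, 40803840],
    [15301440, 34974720, 12241152, 40803840, 5100480],
    [15301440, 34974720, 40803840, 5100480, 12241152],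
    [15301440, 34974720, 40803840, 12241152, 5100480],
    [15301440, 40803840, 5100480, 12241152, 34974720],
    [15301440, 40803840, 5100480, 34974720, 12241152],
    [15301440, 40803840, 12241152, 5100480, 34974720],
    [15301440, 40803840, 12241152, 34974720, 5100480],
    [15301440, 40803840, 34974720, 5100480, 12241152],
    [15301440, 40803840, 34974720, 12241152, 5100480],
    [34974720, 5100480, 12241152, 15301440, 40803840],
    [34974720, 5100480, 12241152, 40803840, 15301440],
    [34974720, 5100480, 15301440, 12241152, 40803840],
    [34974720, 5100480, 15301440, 40803840, 12241152],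
    [34974720, 5100480, 40803840, 12241152, 15301440],
    [34974720, 5100480, 40803840, 15301440, 12241152],
    [34974720, 12241152, 5100480, 15301440, 40803840],
    [34974720, 12241152, 5100480, 40803840, 15301440],
    [34974720, 12241152, 15301440, 5100480, 40803840],
    [34974720, 12241152, 15301440, 40803840, 5100480],
    [34974720, 12241152, 40803840, 5100480, 15301440],
    [34974720, 12241152, 40803840, 15301440, 5100480],
    [34974720, 15301440, 5100480, 12241152, 40803840],
    [34974720, 15301440, 5100480, 40803840, 12241152],
    [34974720, 15301440, 12241152, 5100480, 40803840],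
    [34974720, 15301440, 12241152, 40803840, 5100480],
    [34974720, 15301440, 40803840, 5100480, 12241152],
    [34974720, 15301440, 40803840, 12241152, 5100480],
    [34974720, 40803840, 5100480, 12241152, 15301440],
    [34974720, 40803840, 5100480, 15301440, 12241152],
    [34974720, 40803840, 12241152, 5100480, 15301440],
    [34974720, 40803840, 12241152, 15301440, 5100480],
    [34974720, 40803840, 15301440, 5100480, 12241152],
    [34974720, 40803840, 15301440, 12241152, 5100480],
    [40803840, 5100480, 12241152, 15301440, 34974720],
    [40803840, 5100480, 12241152, 34974720, 15301440],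
    [40803840, 5100480, 15301440, 12241152, 34974720],
    [40803840, 5100480, 15301440, 34974720, 12241152],
    [40803840, 5100480, 34974720, 12241152, 15301440],
    [40803840, 5100480, 34974720, 15301440, 12241152],
    [40803840, 12241152, 5100480, 15301440, 34974720],
    [40803840, 12241152, 5100480, 34974720, 15301440],
    [40803840, 12241152, 15301440, 5100480, 34974720],
    [40803840, 12241152, 15301440, 34974720, 5100480],
    [40803840, 12241152, 34974720, 5100480, 15301440],
    [40803840, 12241152, 34974720, 15301440, 5100480],
    [40803840, 15301440, 5100480, 12241152, 34974720],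
    [40803840, 15301440, 5100480, 34974720, 12241152],
    [40803840, 15301440, 12241152, 5100480, 34974720],
    [40803840, 15301440, 12241152, 34974720, 5100480],
    [40803840, 15301440, 34974720, 5100480, 12241152],
    [40803840, 15301440, 34974720, 12241152, 5100480],
    [40803840, 34974720, 5100480, 12241152, 15301440],
    [40803840, 34974720, 5100480, 15301440, 12241152],
    [40803840, 34974720, 12241152, 5100480, 15301440],
    [40803840, 34974720, 12241152, 15301440, 5100480],
    [40803840, 34974720, 15301440, 5100480, 12241152],
    [40803840, 34974720, 15301440, 12241152, 5100480]]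

/-- A finite function given by a list. -/
def look (l : List (ℕ × ℕ)) (d : ℕ) : ℕ := (l.lookup d).getD 0

/-- The ten known orders. -/
abbrev keys : List ℕ := [1, 2, 3, 5, 7, 10, 11, 15, 21, 23]

/-- The values known so far. -/
def known (t : ℕ) : List (ℕ × ℕ) :=
  [(1, 1), (2, 43263), (3, 712448), (5, 4080384), (7, 11658240), (10, t), (11, 22256640),
    (15, 32643072), (21, 23316480), (23, 21288960)]

/-- The number of solutions of `x ^ m = 1` given by a list. -/
def total (l : List (ℕ × ℕ)) (m : ℕ) : ℕ := ((l.filter fun x => m % x.1 == 0).map Prod.snd).sum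

/-- The moduli used. -/
abbrev moduli : List ℕ := [108, 9216, 5376, 7168, 126, 54]

set_option maxRecDepth 100000 in
theorem five_arith_A : ∀ T ∈ List.sublistsLen 5 cands, (∀ n ∈ T, ∀ d ∈ cands, d ∣ n → d ∈ T) →
    ∀ σ ∈ permsA, (∀ m ∈ moduli, m ∣ total (known 12241152 ++ T.zip σ) m) →
    T = [4, 6, 8, 12, 14] ∧ σ = [5100480, 20401920, 15301440, 40803840, 34974720] := by
  decide +kernel

set_option maxRecDepth 100000 in
theorem five_arith_B : ∀ T ∈ List.sublistsLen 5 cands, (∀ n ∈ T, ∀ d ∈ cands, d ∣ n → d ∈ T) →
    ∀ σ ∈ permsB, ¬ ∀ m ∈ moduli, m ∣ total (known 20401920 ++ T.zip σ) m := by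
  decide +kernel

theorem perms_mem_A : ∀ a ∈ ([5100480, 15301440, 20401920, 34974720, 40803840] : List ℕ), ∀ b ∈ ([5100480, 15301440, 20401920, 34974720, 40803840] : List ℕ), ∀ c ∈ ([5100480, 15301440, 20401920, 34974720, 40803840] : List ℕ),
    ∀ d ∈ ([5100480, 15301440, 20401920, 34974720, 40803840] : List ℕ), ∀ e ∈ ([5100480, 15301440, 20401920, 34974720, 40803840] : List ℕ),
    [a, b, c, d, e].Nodup → [a, b, c, d, e] ∈ permsA := by decide +kernel

theorem perms_mem_B : ∀ a ∈ ([5100480, 12241152, 15301440, 34974720, 40803840] : List ℕ), ∀ b ∈ ([5100480, 12241152, 15301440, 34974720, 40803840] : List ℕ), ∀ c ∈ ([5100480, 12241152, 15301440, 34974720, 40803840] : List ℕ),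
    ∀ d ∈ ([5100480, 12241152, 15301440, 34974720, 40803840] : List ℕ), ∀ e ∈ ([5100480, 12241152, 15301440, 34974720, 40803840] : List ℕ),
    [a, b, c, d, e].Nodup → [a, b, c, d, e] ∈ permsB := by decide +kernel

/-- Orders with more than five divisors outside the known ones. -/
theorem bad_arith : ∀ m ∈ ([36, 48, 60, 80, 126, 128] : List ℕ),
    15 < (Nat.divisors m ∪ {1, 2, 3, 5, 7, 10, 11, 15, 21, 23}).card := by decide +kernel

theorem good_arith : ∀ n ∈ Nat.divisors 240 ∪ Nat.divisors 126,
    (∀ m ∈ ([36, 48, 60, 80, 126, 128] : List ℕ), ¬ m ∣ n) → n ∈ keys ++ cands := by decide +kernel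

theorem good_two_three : ∀ a < 11, ∀ b < 4,
    (∀ m ∈ ([36, 48, 60, 80, 126, 128] : List ℕ), ¬ m ∣ 2 ^ a * 3 ^ b) →
    2 ^ a * 3 ^ b ∈ keys ++ cands := by decide +kernel

theorem total_map (f : ℕ → ℕ) (l : List ℕ) (m : ℕ) (hl : l.Nodup) :
    total (l.map fun a => (a, f a)) m = ∑ d ∈ l.toFinset.filter (· ∣ m), f d := by
  have h : l.toFinset.filter (fun d => d ∣ m) = (l.filter fun d => m % d == 0).toFinset := by
    ext d
    simp [Nat.dvd_iff_mod_eq_zero]
  rw [h, List.sum_toFinset _ (hl.filter _), total, List.filter_map, List.map_map]
  rfl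

theorem zip_map_self (f : ℕ → ℕ) (l : List ℕ) : l.zip (l.map f) = l.map fun a => (a, f a) := by
  induction l with
  | nil => rfl
  | cons a l ih => simp [ih]

variable {G : Type*} [Group G] [Finite G] (hcard : Nat.card G = 244823040)
  (hnse : {c : ℕ | 0 < c ∧ ∃ n : ℕ, c = M22Nse38.sn G n} = {c | c ∈ vals})
include hcard hnse

theorem exists_elt (p : ℕ) [Fact p.Prime] (h : p ∣ 244823040) : ∃ x : G, orderOf x = p :=
  exists_prime_orderOf_dvd_card' p (hcard ▸ h)

theorem s_fifteen : M22Nse38.sn G 15 = 32643072 := by
  have : Fact (Nat.Prime 5) := ⟨by norm_num⟩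
  obtain ⟨x, hx⟩ := exists_elt hcard hnse 5 (by norm_num)
  exact (five_facts hcard hnse hx).2.2.1

theorem s_ten : M22Nse38.sn G 10 = 12241152 ∨ M22Nse38.sn G 10 = 20401920 := by
  have : Fact (Nat.Prime 5) := ⟨by norm_num⟩
  obtain ⟨x, hx⟩ := exists_elt hcard hnse 5 (by norm_num)
  exact (five_facts hcard hnse hx).2.2.2

theorem s_21 : M22Nse38.sn G 21 = 23316480 := by
  have : Fact (Nat.Prime 7) := ⟨by norm_num⟩
  obtain ⟨x, hx⟩ := exists_elt hcard hnse 7 (by norm_num)
  exact (seven_facts hcard hnse hx).2.2

theorem known_eq : known (M22Nse38.sn G 10) = keys.map fun a => (a, M22Nse38.sn G a) := by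
  simp [known, keys, M22Nse38.sn_one, s_two hcard hnse, s_three hcard hnse, s_five hcard hnse,
    s_seven hcard hnse, s_eleven hcard hnse, s_fifteen hcard hnse, s_21 hcard hnse, s_23 hcard hnse]

theorem keys_sub : keys.toFinset ⊆ orders G := by
  intro n hn
  rw [List.mem_toFinset] at hn
  simp only [List.mem_cons, List.not_mem_nil, or_false] at hn
  rw [mem_orders]
  have := s_two hcard hnse
  have := s_three hcard hnse
  have := s_five hcard hnse
  have := s_seven hcard hnse
  have := s_eleven hcard hnse
  have := s_fifteen hcard hnse
  have := s_21 hcard hnse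
  have := s_23 hcard hnse
  have := M22Nse38.sn_one (G := G)
  have := s_ten hcard hnse
  rcases hn with rfl | rfl | rfl | rfl | rfl | rfl | rfl | rfl | rfl | rfl <;> omega

theorem order_pow {g : G} {p : ℕ} (hd : p ∣ orderOf g) :
    orderOf (g ^ (orderOf g / p)) = p ∧
      orderOf g ∣ Nat.card (Subgroup.centralizer ({g ^ (orderOf g / p)} : Set G)) := by
  refine ⟨orderOf_pow_orderOf_div (orderOf_pos g).ne' hd, ?_⟩
  rw [← Nat.card_zpowers]
  exact Subgroup.card_dvd_of_le (Subgroup.zpowers_le.2
    (Subgroup.mem_centralizer_singleton_iff.2 ((Commute.refl g).pow_right _).eq))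

theorem order_mem (g : G) : orderOf g ∈ keys ++ cands := by
  have hbad : ∀ m ∈ ([36, 48, 60, 80, 126, 128] : List ℕ), ¬ m ∣ orderOf g := by
    intro m hm hd
    have hsub : Nat.divisors m ∪ {1, 2, 3, 5, 7, 10, 11, 15, 21, 23} ⊆ orders G :=
      Finset.union_subset (fun d hd' => mem_orders.2
        (sn_pos_of_dvd ((Nat.mem_divisors.1 hd').1.trans hd) (sn_pos.2 ⟨g, rfl⟩)))
        (fun d hd' => keys_sub hcard hnse (by simpa using hd'))
    have := card_le_card hsub
    have := bad_arith m hm
    have := card_orders hcard hnse
    omega
  have h11 : ∀ p ∈ ([11, 23] : List ℕ), p ∣ orderOf g → orderOf g ∈ keys ++ cands := by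
    intro p hp hd
    obtain ⟨hx, hC⟩ := order_pow hcard hnse hd
    simp only [List.mem_cons, List.not_mem_nil, or_false] at hp
    rcases hp with rfl | rfl
    · rw [cent_eleven hcard hnse hx] at hC
      rcases (Nat.dvd_prime (by norm_num)).1 hC with h | h <;> rw [h] <;> decide
    · rw [cent_23 hcard hnse hx] at hC
      rcases (Nat.dvd_prime (by norm_num)).1 hC with h | h <;> rw [h] <;> decide
  by_cases e11 : 11 ∣ orderOf g
  · exact h11 11 (by simp) e11
  by_cases e23 : 23 ∣ orderOf g
  · exact h11 23 (by simp) e23
  by_cases e5 : 5 ∣ orderOf g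
  · obtain ⟨hx, hC⟩ := order_pow hcard hnse e5
    exact good_arith _ (mem_union_left _ (Nat.mem_divisors.2
      ⟨hC.trans (five_facts hcard hnse hx).1, by norm_num⟩)) hbad
  by_cases e7 : 7 ∣ orderOf g
  · obtain ⟨hx, hC⟩ := order_pow hcard hnse e7
    exact good_arith _ (mem_union_right _ (Nat.mem_divisors.2
      ⟨hC.trans (seven_facts hcard hnse hx).1, by norm_num⟩)) hbad
  have hcop : Nat.Coprime (orderOf g) (5 * 7 * 11 * 23) := by
    refine Nat.Coprime.mul_right (Nat.Coprime.mul_right (Nat.Coprime.mul_right ?_ ?_) ?_) ?_
    all_goals refine ((Nat.Prime.coprime_iff_not_dvd (by norm_num)).2 ?_).symm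
    exacts [e5, e7, e11, e23]
  have hd : orderOf g ∣ 2 ^ 10 * 3 ^ 3 := hcop.dvd_of_dvd_mul_right (by
    have := orderOf_dvd_natCard g
    rwa [hcard] at this)
  obtain ⟨u, v, hu, hv, huv⟩ := Nat.dvd_mul.1 hd
  obtain ⟨a, ha, rfl⟩ := (Nat.dvd_prime_pow Nat.prime_two).1 hu
  obtain ⟨b, hb, rfl⟩ := (Nat.dvd_prime_pow Nat.prime_three).1 hv
  rw [← huv]
  exact good_two_three a (by omega) b (by omega) fun m hm => huv ▸ hbad m hm

/-- The spectrum and the remaining counts. -/
theorem five_orders :
    (∀ g : G, orderOf g ∈ ([1, 2, 3, 4, 5, 6, 7, 8, 10, 11, 12, 14, 15, 21, 23] : List ℕ)) ∧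
      M22Nse38.sn G 10 = 12241152 ∧ M22Nse38.sn G 4 = 5100480 ∧ M22Nse38.sn G 6 = 20401920 ∧ M22Nse38.sn G 8 = 15301440 ∧
      M22Nse38.sn G 12 = 40803840 ∧ M22Nse38.sn G 14 = 34974720 := by
  classical
  set L := cands.filter (fun n => decide (n ∈ orders G)) with hL
  have memL : ∀ {n}, n ∈ L ↔ n ∈ cands ∧ n ∈ orders G := by
    intro n
    simp [hL]
  have hdis : ∀ n ∈ cands, n ∉ keys := by decide
  have hLnd : L.Nodup := List.Nodup.filter _ (by decide)
  have hall : (keys ++ L).Nodup := List.nodup_append.2 ⟨by decide, hLnd,
    fun a ha b hb e => hdis b (memL.1 hb).1 (e ▸ ha)⟩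
  have hsplit : orders G = (keys ++ L).toFinset := by
    refine Finset.Subset.antisymm (fun n hn => ?_) (fun n hn => ?_)
    · obtain ⟨g, hg⟩ := sn_pos.1 (mem_orders.1 hn)
      subst hg
      rw [List.mem_toFinset, List.mem_append]
      rcases List.mem_append.1 (order_mem hcard hnse g) with h | h
      · exact Or.inl h
      · exact Or.inr (memL.2 ⟨h, hn⟩)
    · rw [List.mem_toFinset, List.mem_append] at hn
      rcases hn with h | h
      · exact keys_sub hcard hnse (List.mem_toFinset.2 h)
      · exact (memL.1 h).2
  have hlen : L.length = 5 := by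
    have := card_orders hcard hnse
    rw [hsplit, List.toFinset_card_of_nodup hall, List.length_append] at this
    simp only [keys, List.length_cons, List.length_nil] at this
    omega
  have hsub : L ∈ List.sublistsLen 5 cands := List.mem_sublistsLen.2 ⟨List.filter_sublist, hlen⟩
  have hclosed : ∀ n ∈ L, ∀ d ∈ cands, d ∣ n → d ∈ L := fun n hn d hd hdn =>
    memL.2 ⟨hd, mem_orders.2 (sn_pos_of_dvd hdn (mem_orders.1 (memL.1 hn).2))⟩
  have hnd : (L.map (M22Nse38.sn G)).Nodup :=
    List.Nodup.map_on (fun a ha b _ he => sn_inj hcard hnse (mem_orders.1 (memL.1 ha).2) he) hLnd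
  have hval : ∀ n ∈ L, M22Nse38.sn G n ∈ vals ∧ ∀ k ∈ keys, M22Nse38.sn G n ≠ M22Nse38.sn G k := fun n hn =>
    ⟨sn_mem hcard hnse (mem_orders.1 (memL.1 hn).2), fun k hk e => by
      have := sn_inj hcard hnse (mem_orders.1 (memL.1 hn).2) e
      exact hdis n (memL.1 hn).1 (this ▸ hk)⟩
  have hmod : ∀ m ∈ moduli, m ∣ total (known (M22Nse38.sn G 10) ++ L.zip (L.map (M22Nse38.sn G))) m := by
    intro m hm
    rw [zip_map_self, known_eq hcard hnse, ← List.map_append, total_map _ _ _ hall, ← hsplit]
    have hm' : m ≠ 0 ∧ Nat.gcd m 244823040 = m := by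
      simp only [List.mem_cons, List.not_mem_nil, or_false] at hm
      rcases hm with rfl | rfl | rfl | rfl | rfl | rfl <;> norm_num
    have h := frob (G := G) m
    rw [hcard, hm'.2, card_pow_eq_one hm'.1] at h
    refine h.trans (dvd_of_eq ?_)
    refine (sum_subset (fun d hd => ?_) fun d hd hd' => ?_).symm
    · exact Nat.mem_divisors.2 ⟨(mem_filter.1 hd).2, hm'.1⟩
    · by_contra hne
      exact hd' (mem_filter.2 ⟨mem_orders.2 (Nat.pos_of_ne_zero hne), (Nat.mem_divisors.1 hd).1⟩)
  have hl : (L.map (M22Nse38.sn G)).length = 5 := by rw [List.length_map, hlen]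
  have e1 := M22Nse38.sn_one (G := G)
  have e2 := s_two hcard hnse
  have e3 := s_three hcard hnse
  have e5 := s_five hcard hnse
  have e7 := s_seven hcard hnse
  have e11 := s_eleven hcard hnse
  have e15 := s_fifteen hcard hnse
  have e21 := s_21 hcard hnse
  have e23 := s_23 hcard hnse
  have hrest : ∀ v ∈ L.map (M22Nse38.sn G), v ∈ vals ∧ v ∉ ([1, 43263, 712448, 4080384, 11658240,
      22256640, 32643072, 23316480, 21288960, M22Nse38.sn G 10] : List ℕ) := by
    intro v hv
    obtain ⟨n, hn, rfl⟩ := List.mem_map.1 hv
    obtain ⟨h1, h2⟩ := hval n hn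
    simp only [keys, List.forall_mem_cons, List.forall_mem_nil, and_true] at h2
    simp only [List.mem_cons, List.not_mem_nil, or_false]
    exact ⟨h1, by omega⟩
  rcases s_ten hcard hnse with h10 | h10
  · rw [h10] at hmod hrest
    have hσ : L.map (M22Nse38.sn G) ∈ permsA := by
      have hm : ∀ v ∈ L.map (M22Nse38.sn G), v ∈ ([5100480, 15301440, 20401920, 34974720, 40803840] : List ℕ) := by
        intro v hv
        obtain ⟨h1, h2⟩ := hrest v hv
        simp only [vals, mem_insert, mem_singleton] at h1
        simp only [List.mem_cons, List.not_mem_nil, or_false] at h2 ⊢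
        omega
      match L.map (M22Nse38.sn G), hl, hm, hnd with
      | [a, b, c, d, e], _, hm, hnd =>
        exact perms_mem_A a (hm a (by simp)) b (hm b (by simp)) c (hm c (by simp)) d (hm d (by simp))
          e (hm e (by simp)) hnd
    obtain ⟨hT, hs⟩ := five_arith_A L hsub hclosed _ hσ hmod
    rw [hT] at hs
    simp only [List.map_cons, List.map_nil, List.cons.injEq, and_true] at hs
    obtain ⟨h4, h6, h8, h12, h14⟩ := hs
    refine ⟨fun g => ?_, h10, h4, h6, h8, h12, h14⟩
    have hg : orderOf g ∈ orders G := mem_orders.2 (sn_pos.2 ⟨g, rfl⟩)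
    rw [hsplit, hT, List.mem_toFinset] at hg
    simp only [keys, List.cons_append, List.nil_append, List.mem_cons, List.not_mem_nil,
      or_false] at hg ⊢
    omega
  · exfalso
    rw [h10] at hmod hrest
    have hσ : L.map (M22Nse38.sn G) ∈ permsB := by
      have hm : ∀ v ∈ L.map (M22Nse38.sn G), v ∈ ([5100480, 12241152, 15301440, 34974720, 40803840] : List ℕ) := by
        intro v hv
        obtain ⟨h1, h2⟩ := hrest v hv
        simp only [vals, mem_insert, mem_singleton] at h1
        simp only [List.mem_cons, List.not_mem_nil, or_false] at h2 ⊢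
        omega
      match L.map (M22Nse38.sn G), hl, hm, hnd with
      | [a, b, c, d, e], _, hm, hnd =>
        exact perms_mem_B a (hm a (by simp)) b (hm b (by simp)) c (hm c (by simp)) d (hm d (by simp))
          e (hm e (by simp)) hnd
    exact five_arith_B L hsub hclosed _ hσ hmod

end Cfsg.Agent.M24Nse26
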